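import Groth.Agent.Lib.SubtrRefine4.Affine
import Groth.Agent.Lib.HTop.PhExtend
import Groth.Agent.S0384
import Groth.Agent.S0385

/-!
# The proper and the finite refinement
-/

set_option autoImplicit false
set_option backward.isDefEq.respectTransparency false
universe u

open CategoryTheory CategoryTheory.Limits AlgebraicGeometry

noncomputable section

namespace GrothLib.SubtrRefine4

theorem isProper_sigmaDesc_fin : ∀ (n : ℕ) (W : Fin n → Scheme.{u}) {Z : Scheme.{u}}
    (f : ∀ i, W i ⟶ Z), (∀ i, IsProper (f i)) → IsProper (Sigma.desc f)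
  | 0, W, Z, f, _ => by
    haveI : IsEmpty (∐ W : Scheme.{u}) := ⟨fun x => Fin.elim0 ((sigmaOpenCover W).exists_eq x).choose⟩
    haveI : IsClosedImmersion (Sigma.desc f) :=
      IsClosedImmersion.of_isPreimmersion _ (by simp [Set.range_eq_empty])
    infer_instance
  | n + 1, W, Z, f, hf => by
    haveI := hf 0
    haveI := isProper_sigmaDesc_fin n (fun i => W i.succ) (fun i => f i.succ) fun i => hf i.succ
    let e : ∐ W ≅ W 0 ⨿ ∐ fun i : Fin n => W i.succ :=
      { hom := Sigma.desc (Fin.cases coprod.inl (fun i => Sigma.ι (fun i : Fin n => W i.succ) i ≫ coprod.inr))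
        inv := coprod.desc (Sigma.ι W 0) (Sigma.desc fun i => Sigma.ι W i.succ)
        hom_inv_id := by
          refine Sigma.hom_ext _ _ fun i => ?_
          cases i using Fin.cases <;> simp
        inv_hom_id := by
          refine coprod.hom_ext (by simp) ?_
          refine (coprod.inr_desc_assoc _ _ _).trans (Sigma.hom_ext _ _ fun i => ?_)
          simp }
    have he : Sigma.desc f = e.hom ≫ coprod.desc (f 0) (Sigma.desc fun i => f i.succ) := by
      refine Sigma.hom_ext _ _ fun i => ?_
      cases i using Fin.cases <;> simp [e]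
    rw [he]
    haveI : IsIso e.hom := ⟨e.inv, e.hom_inv_id, e.inv_hom_id⟩
    exact (MorphismProperty.cancel_left_of_respectsIso @IsProper _ _).2
      (GrothLib.HTop.isProper_coprodDesc _ _)

/-- A finite sum of proper morphisms is proper. -/
theorem isProper_sigmaDesc {ι : Type u} [Finite ι] {W : ι → Scheme.{u}} {Z : Scheme.{u}}
    (f : ∀ i, W i ⟶ Z) (hf : ∀ i, IsProper (f i)) : IsProper (Sigma.desc f) := by
  let σ := (Finite.equivFin ι).symm
  have e : Sigma.desc f = (Sigma.reindex σ W).inv ≫ Sigma.desc (fun i => f (σ i)) := by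
    rw [Iso.eq_inv_comp]
    refine Sigma.hom_ext _ _ fun i => ?_
    simp
  haveI := isProper_sigmaDesc_fin _ (fun i => W (σ i)) (fun i => f (σ i)) fun i => hf _
  rw [e]
  exact (MorphismProperty.cancel_left_of_respectsIso @IsProper _ _).2 ‹_›

theorem refines_proper {X Y : Scheme.{u}} (f : X ⟶ Y) (hY : IsAffine Y ∨ IsNoetherian Y)
    [LocallyOfFinitePresentation f] [QuasiCompact f] [QuasiSeparated f]
    (hf : Subtr.UnivSSubtrusive f) : Refines @IsProper f := by
  have key : ∀ {X Y : Scheme.{u}} (f : X ⟶ Y) [IsNoetherian Y] [LocallyOfFinitePresentation f] [QuasiCompact f],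
      Subtr.UnivSSubtrusive f → Refines @IsProper f := fun {X Y} f _ _ _ hf =>
    exists_refinement_noetherian f hf @IsProper (fun i => inferInstance) (fun _ h => h)
      (fun g hg => isProper_sigmaDesc g hg) (by
        intro W U i k _ _ _ _
        haveI : LocallyOfFiniteType (i ≫ k ≫ f) := inferInstance
        obtain ⟨Z, j, g, h1, -, h2, h3⟩ := Groth.Agent.S0384.result (i ≫ k ≫ f)
        exact ⟨Z, j, g, h1, h2, h3⟩)
  rcases hY with hY | hY
  · haveI := hY
    exact refines_of_isAffine @IsProper key f hf
  · haveI := hY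
    exact key f hf

theorem refines_finite {X Y : Scheme.{u}} (f : X ⟶ Y) (hY : IsAffine Y ∨ IsNoetherian Y)
    [LocallyOfFinitePresentation f] [QuasiCompact f] [QuasiSeparated f] [LocallyQuasiFinite f]
    (hf : Subtr.UnivSSubtrusive f) : Refines @IsFinite f := by
  have key : ∀ {X Y : Scheme.{u}} (f : X ⟶ Y) [IsNoetherian Y] [LocallyOfFinitePresentation f] [QuasiCompact f]
      [LocallyQuasiFinite f], Subtr.UnivSSubtrusive f → Refines @IsFinite f := fun {X Y} f _ _ _ _ hf =>
    exists_refinement_noetherian f hf @IsFinite (fun i => inferInstance) (fun _ h => haveI := h; inferInstance)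
      (fun g hg => haveI := hg; GrothLib.SGA1Quot21.isFinite_sigmaDesc g) (by
        intro W U i k _ _ _ _
        haveI : LocallyOfFiniteType (i ≫ k ≫ f) := inferInstance
        haveI : LocallyQuasiFinite (i ≫ k ≫ f) := inferInstance
        obtain ⟨Z, j, g, h1, -, h2, h3⟩ := Groth.Agent.S0385.result (i ≫ k ≫ f)
        exact ⟨Z, j, g, h1, h2, h3⟩)
  rcases hY with hY | hY
  · haveI := hY
    exact refines_of_isAffine_quasiFinite @IsFinite key f hf
  · haveI := hY
    exact key f hf

end GrothLib.SubtrRefine4
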