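import Groth.Agent.Lib.SubtrRefine4.Global
import Groth.Agent.S14792
import Groth.Agent.S9194
import Groth.Agent.Lib.SubtrLim.Submersive

/-!
# Refinements over an affine base, by descent to Noetherian models
-/

set_option autoImplicit false
set_option backward.isDefEq.respectTransparency false
universe u

open CategoryTheory CategoryTheory.Limits AlgebraicGeometry Opposite

noncomputable section

namespace GrothLib.SubtrRefine4

/-- The data of a refinement by a quasi-compact open cover followed by a `Q`-morphism. -/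
def Refines (Q : MorphismProperty Scheme.{u}) {X Y : Scheme.{u}} (f : X ⟶ Y) : Prop :=
  ∃ (X' Y' : Scheme.{u}) (h : X' ⟶ X) (p : X' ⟶ Y') (q : Y' ⟶ Y), h ≫ f = p ≫ q ∧
    Surjective p ∧ QuasiCompact p ∧ QuasiSeparated p ∧
    (∀ x : X', ∃ U : X'.Opens, x ∈ U ∧ IsOpenImmersion (U.ι ≫ p)) ∧
    Q q ∧ Surjective q ∧ LocallyOfFinitePresentation q

theorem Refines.of_isPullback {Q : MorphismProperty Scheme.{u}} [Q.IsStableUnderBaseChange]
    {X Y X₀ Y₀ : Scheme.{u}} {f : X ⟶ Y} {f₀ : X₀ ⟶ Y₀} {a : X ⟶ X₀} {m : Y ⟶ Y₀}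
    (sq : IsPullback a f f₀ m) (h : Refines Q f₀) : Refines Q f := by
  obtain ⟨X₀', Y₀', h₀, p₀, q₀, hw, hp, hpc, hps, hloc, hq, hqs, hqf⟩ := h
  let q := pullback.snd q₀ m
  let r := pullback.fst q₀ m
  let p := pullback.snd p₀ r
  refine ⟨pullback p₀ r, pullback q₀ m, sq.lift (pullback.fst p₀ r ≫ h₀) (p ≫ q) ?_, p, q,
    sq.lift_snd _ _ _, inferInstance, inferInstance, inferInstance, fun x => ?_,
    Q.pullback_snd q₀ m hq, inferInstance, inferInstance⟩
  · rw [Category.assoc, hw, Category.assoc, ← pullback.condition, ← Category.assoc, ← Category.assoc]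
    exact congrArg (· ≫ q₀) pullback.condition
  · obtain ⟨U₀, hx, hU₀⟩ := hloc (pullback.fst p₀ r x)
    refine ⟨pullback.fst p₀ r ⁻¹ᵁ U₀, hx, ?_⟩
    exact MorphismProperty.of_isPullback
      ((isPullback_morphismRestrict (pullback.fst p₀ r) U₀).paste_vert (IsPullback.of_hasPullback p₀ r)) hU₀

theorem univSSubtrusive_of_univSubmersive {A : Type u} [CommRing A] (A₀ : Subalgebra ℤ A) (hA₀ : A₀.FG)
    {X₀ : Scheme.{u}} (f₀ : X₀ ⟶ Spec (CommRingCat.of A₀)) [LocallyOfFiniteType f₀] [QuasiCompact f₀]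
    (hu : SGA1.UnivSubmersive f₀) : Subtr.UnivSSubtrusive f₀ := by
  haveI : Algebra.FiniteType ℤ A₀ := (Subalgebra.fg_iff_finiteType _).mp hA₀
  haveI : IsNoetherianRing A₀ := Algebra.FiniteType.isNoetherianRing ℤ _
  exact GrothLib.SubtrLim.univSSubtrusive_iff_valPair.mpr
    (GrothLib.SubtrLim.valPair_of_dvrPair (GrothLib.SubtrLim.dvrPair_of_univSubmersive hu))

/-- Reduction of the affine case to Noetherian bases. -/
theorem refines_of_isAffine (Q : MorphismProperty Scheme.{u}) [Q.IsStableUnderBaseChange]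
    (hQ : ∀ {X Y : Scheme.{u}} (f : X ⟶ Y) [IsNoetherian Y] [LocallyOfFinitePresentation f] [QuasiCompact f],
      Subtr.UnivSSubtrusive f → Refines Q f)
    {X Y : Scheme.{u}} (f : X ⟶ Y) [IsAffine Y] [LocallyOfFinitePresentation f] [QuasiCompact f]
    [QuasiSeparated f] (hf : Subtr.UnivSSubtrusive f) : Refines Q f := by
  let f' := f ≫ Y.isoSpec.hom
  have hf' : Subtr.UnivSSubtrusive f' :=
    (MorphismProperty.cancel_right_of_respectsIso (P := MorphismProperty.universally _) f _).mpr hf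
  obtain ⟨A₀, hA₀, X₀, f₀, a, sq, _, _, _, hu⟩ := (Groth.Agent.S14792.result Γ(Y, ⊤) f').mp hf'
  haveI : Algebra.FiniteType ℤ A₀ := (Subalgebra.fg_iff_finiteType _).mp hA₀
  haveI : IsNoetherianRing A₀ := Algebra.FiniteType.isNoetherianRing ℤ _
  have h' := (hQ f₀ (univSSubtrusive_of_univSubmersive A₀ hA₀ f₀ hu)).of_isPullback sq
  exact h'.of_isPullback (f := f) (a := 𝟙 X) (m := Y.isoSpec.hom) (IsPullback.of_horiz_isIso ⟨by simp [f']⟩)

/-- The quasi-finite variant. -/
theorem refines_of_isAffine_quasiFinite (Q : MorphismProperty Scheme.{u}) [Q.IsStableUnderBaseChange]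
    (hQ : ∀ {X Y : Scheme.{u}} (f : X ⟶ Y) [IsNoetherian Y] [LocallyOfFinitePresentation f] [QuasiCompact f]
      [LocallyQuasiFinite f], Subtr.UnivSSubtrusive f → Refines Q f)
    {X Y : Scheme.{u}} (f : X ⟶ Y) [IsAffine Y] [LocallyOfFinitePresentation f] [QuasiCompact f]
    [QuasiSeparated f] [LocallyQuasiFinite f] (hf : Subtr.UnivSSubtrusive f) : Refines Q f := by
  let f' := f ≫ Y.isoSpec.hom
  have hf' : Subtr.UnivSSubtrusive f' :=
    (MorphismProperty.cancel_right_of_respectsIso (P := MorphismProperty.universally _) f _).mpr hf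
  obtain ⟨A₀, hA₀, X₀, f₀, a, sq, _, _, _, hu⟩ := (Groth.Agent.S14792.result Γ(Y, ⊤) f').mp hf'
  let D := GrothLib.LimDescend.fgDiagram Γ(Y, ⊤)
  let c := GrothLib.LimDescend.fgCone Γ(Y, ⊤)
  let i₀ : (GrothLib.LimDescend.FgSub Γ(Y, ⊤))ᵒᵖ := op ⟨A₀, hA₀⟩
  let f₁ : X₀ ⟶ D.obj i₀ := f₀
  haveI : LocallyOfFiniteType f₁ := inferInstanceAs (LocallyOfFiniteType f₀)
  haveI : CompactSpace X₀ := QuasiCompact.compactSpace_of_compactSpace f₀
  haveI : QuasiSeparatedSpace X₀ := quasiSeparatedSpace_of_quasiSeparated f₀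
  haveI : LocallyQuasiFinite f' :=
    (MorphismProperty.cancel_right_of_respectsIso @LocallyQuasiFinite f _).mpr inferInstance
  have hY : IsPullback (c.π.app i₀) (𝟙 c.pt) (𝟙 (D.obj i₀)) (c.π.app i₀) := IsPullback.of_id_fst.flip
  obtain ⟨i, φ, Xi, Yi, fi, gi, pY, pX, hYi, hXi, hfi⟩ :=
    Groth.Agent.S9194.result D c (GrothLib.LimDescend.isLimitFgCone Γ(Y, ⊤)) i₀ f₁ (𝟙 (D.obj i₀))
      f' (𝟙 c.pt) (c.π.app i₀) a hY sq
  haveI : IsIso gi := hYi.isIso_snd_of_isIso
  let fs := fi ≫ gi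
  have hsq : IsPullback pX fs f₁ (D.map φ) := by
    have h := hXi.paste_vert hYi
    rwa [Category.comp_id] at h
  have hsq' : IsPullback (hsq.lift a (f' ≫ c.π.app i)
      (by rw [Category.assoc, Cone.w]; exact sq.w)) f' fs (c.π.app i) := by
    refine IsPullback.of_right ?_ (hsq.lift_snd _ _ _) hsq
    rw [hsq.lift_fst, Cone.w]
    exact sq
  haveI : IsNoetherianRing i.unop.1 :=
    haveI : Algebra.FiniteType ℤ i.unop.1 := (Subalgebra.fg_iff_finiteType _).mp i.unop.2
    Algebra.FiniteType.isNoetherianRing ℤ _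
  haveI : IsNoetherian (D.obj i) :=
    inferInstanceAs (IsNoetherian (Spec (CommRingCat.of i.unop.1)))
  haveI : LocallyOfFinitePresentation f₁ := inferInstanceAs (LocallyOfFinitePresentation f₀)
  haveI : QuasiCompact f₁ := inferInstanceAs (QuasiCompact f₀)
  haveI : LocallyOfFinitePresentation fs := MorphismProperty.of_isPullback hsq inferInstance
  haveI : QuasiCompact fs := MorphismProperty.of_isPullback hsq inferInstance
  haveI : LocallyQuasiFinite fs :=
    (MorphismProperty.cancel_right_of_respectsIso @LocallyQuasiFinite fi gi).mpr hfi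
  have hs : Subtr.UnivSSubtrusive fs := MorphismProperty.of_isPullback (P := MorphismProperty.universally _)
    hsq (univSSubtrusive_of_univSubmersive A₀ hA₀ f₀ hu)
  exact ((hQ fs hs).of_isPullback hsq').of_isPullback (f := f) (a := 𝟙 X) (m := Y.isoSpec.hom)
    (IsPullback.of_horiz_isIso ⟨by simp [f']⟩)

end GrothLib.SubtrRefine4
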