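import Groth.Agent.Lib.SubtrRefine4.Main

/-!
# Refinements over a Noetherian base
-/

set_option autoImplicit false
set_option backward.isDefEq.respectTransparency false
universe u

open CategoryTheory CategoryTheory.Limits AlgebraicGeometry IsLocalRing

noncomputable section

namespace GrothLib.SubtrRefine4

theorem isOpenImmersion_local_sigmaDesc {σ : Type u} {T : Scheme.{u}} {W : σ → Scheme.{u}}
    (g : ∀ i, W i ⟶ T) [∀ i, IsOpenImmersion (g i)] (x : (∐ W : Scheme.{u})) :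
    ∃ U : (∐ W : Scheme.{u}).Opens, x ∈ U ∧ IsOpenImmersion (U.ι ≫ Sigma.desc g) := by
  obtain ⟨i, w, hw⟩ := (sigmaOpenCover W).exists_eq x
  refine ⟨(Sigma.ι W i).opensRange, ⟨w, hw⟩, ?_⟩
  have : (Sigma.ι W i).opensRange.ι ≫ Sigma.desc g = (Sigma.ι W i).isoOpensRange.inv ≫ g i := by
    rw [Iso.eq_inv_comp, ← Category.assoc, Scheme.Hom.isoOpensRange_hom_ι, Sigma.ι_desc]
  rw [this]
  infer_instance

/-- Refinement by a quasi-compact open cover followed by a compactified morphism. -/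
theorem exists_refinement_noetherian {X Y : Scheme.{u}} (f : X ⟶ Y) [IsNoetherian Y]
    [LocallyOfFiniteType f] (hf : Subtr.UnivSSubtrusive f) (Q : MorphismProperty Scheme.{u})
    [Q.IsMultiplicative] [Q.IsStableUnderBaseChange]
    (hcl : ∀ {A B : Scheme.{u}} (i : A ⟶ B) [IsClosedImmersion i], Q i)
    (hproper : ∀ {A B : Scheme.{u}} (i : A ⟶ B), Q i → IsProper i)
    (hsum : ∀ {σ : Type u} [Finite σ] {A : σ → Scheme.{u}} {B : Scheme.{u}} (g : ∀ i, A i ⟶ B),
      (∀ i, Q (g i)) → Q (Sigma.desc g))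
    (hcomp : ∀ {W U : Scheme.{u}} (i : W ⟶ U) (k : U ⟶ X) [IsClosedImmersion i] [IsOpenImmersion k]
      [IsSeparated (i ≫ k ≫ f)] [QuasiCompact (i ≫ k ≫ f)],
      ∃ (Z : Scheme.{u}) (j : W ⟶ Z) (g : Z ⟶ Y), IsOpenImmersion j ∧ Q g ∧ j ≫ g = i ≫ k ≫ f) :
    ∃ (X' Y' : Scheme.{u}) (h : X' ⟶ X) (p : X' ⟶ Y') (q : Y' ⟶ Y), h ≫ f = p ≫ q ∧
      Surjective p ∧ QuasiCompact p ∧ QuasiSeparated p ∧
      (∀ x : X', ∃ U : X'.Opens, x ∈ U ∧ IsOpenImmersion (U.ι ≫ p)) ∧
      Q q ∧ Surjective q ∧ LocallyOfFinitePresentation q := by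
  classical
  have hfin : (genericPoints Y).Finite :=
    genericPoints.finite (TopologicalSpace.NoetherianSpace.finite_irreducibleComponents)
  haveI : Finite (genericPoints Y) := hfin.to_subtype
  let ηs := {η : Y // η ∈ genericPoints Y}
  let Ω : ηs → Type u := fun η => AlgebraicClosure (Y.residueField η.1)
  let e : ∀ η : ηs, Spec (CommRingCat.of (Ω η)) ⟶ Y := fun η =>
    Spec.map (CommRingCat.ofHom (algebraMap (Y.residueField η.1) (Ω η))) ≫ Y.fromSpecResidueField η.1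
  have he : ∀ η : ηs, e η (closedPoint (Ω η)) = η.1 := fun η => by
    show (Spec.map _ ≫ Y.fromSpecResidueField η.1) _ = _
    rw [Scheme.Hom.comp_apply]
    exact Scheme.fromSpecResidueField_apply _ _
  choose Y₀ q₀ σ hσ W' h' hQ hsurj hcov hh using fun η : ηs =>
    exists_piece f (e η) hf Q hcl hproper hcomp
  haveI : Finite (Σ η, σ η) := inferInstance
  let A : (Σ η, σ η) → Scheme.{u} := fun i => (W' i.1 i.2 : Scheme.{u})
  let g : ∀ i, A i ⟶ (∐ Y₀ : Scheme.{u}) := fun i => (W' i.1 i.2).ι ≫ Sigma.ι Y₀ i.1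
  let q : (∐ Y₀ : Scheme.{u}) ⟶ Y := Sigma.desc q₀
  have hq : Q q := hsum q₀ hQ
  haveI := hproper q hq
  haveI : IsLocallyNoetherian (∐ Y₀ : Scheme.{u}) := LocallyOfFiniteType.isLocallyNoetherian q
  haveI : CompactSpace (∐ Y₀ : Scheme.{u}) := QuasiCompact.compactSpace_of_compactSpace q
  haveI : QuasiSeparatedSpace (∐ Y₀ : Scheme.{u}) := quasiSeparatedSpace_of_quasiSeparated q
  haveI : ∀ i, CompactSpace (A i) := fun i => by
    haveI := hproper _ (hQ i.1)
    haveI : IsLocallyNoetherian (Y₀ i.1) := LocallyOfFiniteType.isLocallyNoetherian (q₀ i.1)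
    haveI : CompactSpace (Y₀ i.1) := QuasiCompact.compactSpace_of_compactSpace (q₀ i.1)
    haveI : TopologicalSpace.NoetherianSpace (Y₀ i.1) :=
      haveI : IsNoetherian (Y₀ i.1) := ⟨⟩; inferInstance
    exact isCompact_iff_compactSpace.mp (TopologicalSpace.NoetherianSpace.isCompact _)
  haveI : CompactSpace (∐ A : Scheme.{u}) := (sigmaMk A).compactSpace
  haveI : ∀ i, IsOpenImmersion (g i) := fun i => inferInstance
  let p : (∐ A : Scheme.{u}) ⟶ (∐ Y₀ : Scheme.{u}) := Sigma.desc g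
  haveI : LocallyOfFiniteType p := by
    rw [IsZariskiLocalAtSource.iff_of_openCover (P := @LocallyOfFiniteType) (sigmaOpenCover A)]
    intro i
    show LocallyOfFiniteType (Sigma.ι A i ≫ Sigma.desc g)
    rw [Sigma.ι_desc]
    infer_instance
  haveI : IsLocallyNoetherian (∐ A : Scheme.{u}) := LocallyOfFiniteType.isLocallyNoetherian p
  refine ⟨∐ A, ∐ Y₀, Sigma.desc fun i => h' i.1 i.2, p, q, ?_, ⟨fun y => ?_⟩, inferInstance, inferInstance,
    fun x => isOpenImmersion_local_sigmaDesc g x, hq, ⟨fun y => ?_⟩,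
    LocallyOfFinitePresentation.iff_locallyOfFiniteType.mpr inferInstance⟩
  · refine Sigma.hom_ext _ _ fun i => ?_
    simp only [p, q, g, A, colimit.ι_desc_assoc, Cofan.mk_ι_app, Category.assoc, hh, Sigma.ι_desc]
  · obtain ⟨η, y, rfl⟩ := (sigmaOpenCover Y₀).exists_eq y
    obtain ⟨i, hi⟩ := hcov η y
    refine ⟨Sigma.ι A ⟨η, i⟩ ⟨y, hi⟩, ?_⟩
    rw [← Scheme.Hom.comp_apply, Sigma.ι_desc, Scheme.Hom.comp_apply]
    rfl
  · let η : genericPoints Y := genericPoints.ofComponent ⟨_, irreducibleComponent_mem_irreducibleComponents y⟩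
    have hy : y ∈ closure ({η.1} : Set Y) := by
      rw [genericPoints.isGenericPoint η]
      simpa [η, genericPoints.component_ofComponent] using mem_irreducibleComponent (x := y)
    obtain ⟨z, hz⟩ := hsurj η ((he η).symm ▸ hy)
    exact ⟨Sigma.ι Y₀ η z, by rw [← Scheme.Hom.comp_apply, Sigma.ι_desc, hz]⟩

end GrothLib.SubtrRefine4
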