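import Groth.Agent.Lib.SubtrRefine4.Ultra
import Groth.Agent.Lib.SGA1Quot21.SigmaFinite

/-!
# Refinement of universally subtrusive morphisms: open cover followed by a compactified morphism
-/

set_option autoImplicit false
set_option backward.isDefEq.respectTransparency false
universe u

open CategoryTheory CategoryTheory.Limits AlgebraicGeometry IsLocalRing

noncomputable section

namespace GrothLib.SubtrRefine4

variable {X Y : Scheme.{u}} {f : X ⟶ Y} {Ω : Type u} [Field Ω] {e : Spec (CommRingCat.of Ω) ⟶ Y}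

/-- The chart domain attached to a point: spectrum of the image subring. -/
abbrev Pt.W (x : Pt f e) : Scheme.{u} := Spec (CommRingCat.of x.β.hom.range)

/-- The closed immersion in the chart. -/
abbrev Pt.cl (x : Pt f e) : x.W ⟶ Spec Γ(X, x.U.1) :=
  Spec.map (CommRingCat.ofHom x.β.hom.rangeRestrict)

/-- The chart map. -/
abbrev Pt.toX (x : Pt f e) : x.W ⟶ X := x.cl ≫ x.U.2.fromSpec

/-- The generic point. -/
abbrev Pt.gen (x : Pt f e) : Spec (CommRingCat.of Ω) ⟶ x.W :=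
  Spec.map (CommRingCat.ofHom x.β.hom.range.subtype)

theorem Pt.gen_toX (x : Pt f e) : x.gen ≫ x.toX ≫ f = e := by
  conv_rhs => rw [← x.fac]
  rw [Category.assoc, ← Spec.map_comp_assoc]
  rfl

instance (x : Pt f e) : IsClosedImmersion x.cl :=
  IsClosedImmersion.spec_of_surjective _ x.β.hom.rangeRestrict_surjective

theorem Pt.exists_lift_of_good (x : Pt f e) (P : Ctr e) (h : x.Good P) :
    ∃ γ : Spec (CommRingCat.of P.V) ⟶ x.W, genMap P.V ≫ γ = x.gen ∧ γ ≫ x.toX ≫ f = P.c := by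
  let φ : CommRingCat.of x.β.hom.range ⟶ CommRingCat.of P.V :=
    CommRingCat.ofHom (x.β.hom.range.subtype.codRestrict P.V.toSubring
      (by rintro ⟨_, b, rfl⟩; exact h.2 b))
  have hgen : genMap P.V ≫ Spec.map φ = x.gen := (Spec.map_comp _ _).symm
  refine ⟨Spec.map φ, hgen, ?_⟩
  obtain ⟨α, hα, hαe⟩ := P.exists_ringHom x.Yk.2 h.1
  have hYk : IsAffineOpen x.Yk.1 := x.Yk.2
  have hU : IsAffineOpen x.U.1 := x.U.2
  let α' : Γ(Y, x.Yk.1) ⟶ CommRingCat.of P.V :=
    f.appLE x.Yk.1 x.U.1 x.le ≫ CommRingCat.ofHom x.β.hom.rangeRestrict ≫ φ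
  have hα' : Spec.map α' ≫ hYk.fromSpec = Spec.map φ ≫ x.toX ≫ f := by
    simp only [α', Spec.map_comp, Category.assoc, IsAffineOpen.SpecMap_appLE_fromSpec f hYk hU x.le]
  have heq : α' = α := by
    have h2 : Spec.map (α' ≫ CommRingCat.ofHom (algebraMap P.V Ω)) =
        Spec.map (α ≫ CommRingCat.ofHom (algebraMap P.V Ω)) := by
      rw [← cancel_mono hYk.fromSpec, hαe, Spec.map_comp, Category.assoc, hα']
      exact ((Category.assoc _ _ _).symm.trans (congrArg (· ≫ x.toX ≫ f) hgen)).trans x.gen_toX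
    refine CommRingCat.hom_ext (RingHom.ext fun r => Subtype.ext ?_)
    exact congrArg (fun g => g.hom r) (Spec.map_injective h2)
  rw [← hα', heq, hα]

/-- Iterated compactification. -/
theorem exists_joint (Q : MorphismProperty Scheme.{u}) [Q.IsMultiplicative] [Q.IsStableUnderBaseChange]
    (F : Finset (Pt f e)) (Z : Pt f e → Scheme.{u}) (j : ∀ x, x.W ⟶ Z x) (g : ∀ x, Z x ⟶ Y)
    (hg : ∀ x, Q (g x)) (hj : ∀ x, j x ≫ g x = x.toX ≫ f) :
    ∃ (T : Scheme.{u}) (q : T ⟶ Y) (ε : Spec (CommRingCat.of Ω) ⟶ T), Q q ∧ ε ≫ q = e ∧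
      ∀ x ∈ F, ∃ pr : T ⟶ Z x, pr ≫ g x = q ∧ ε ≫ pr = x.gen ≫ j x := by
  classical
  induction F using Finset.induction with
  | empty => exact ⟨Y, 𝟙 Y, e, Q.id_mem Y, Category.comp_id e, fun x hx => absurd hx (Finset.notMem_empty x)⟩
  | insert a s _ ih =>
    obtain ⟨T, q, ε, hq, hε, hpr⟩ := ih
    refine ⟨pullback q (g a), pullback.fst q (g a) ≫ q,
      pullback.lift ε (a.gen ≫ j a) (by rw [Category.assoc, hj, hε, a.gen_toX]),
      Q.comp_mem _ _ (Q.pullback_fst q (g a) (hg a)) hq,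
      by rw [pullback.lift_fst_assoc, hε], fun x hx => ?_⟩
    rcases Finset.mem_insert.mp hx with rfl | hx
    · exact ⟨pullback.snd q (g x), pullback.condition.symm, pullback.lift_snd _ _ _⟩
    · obtain ⟨pr, h1, h2⟩ := hpr x hx
      exact ⟨pullback.fst q (g a) ≫ pr, by rw [Category.assoc, h1], by rw [pullback.lift_fst_assoc, h2]⟩

/-- A centre over a specialisation. -/
theorem exists_ctr {T : Scheme.{u}} (q : T ⟶ Y) (ε : Spec (CommRingCat.of Ω) ⟶ T) (hε : ε ≫ q = e)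
    (z : T) (hz : ε (closedPoint Ω) ⤳ z) :
    ∃ (P : Ctr e) (c : Spec (CommRingCat.of P.V) ⟶ T), c ≫ q = P.c ∧ genMap P.V ≫ c = ε ∧
      c (closedPoint P.V) = z := by
  let σ : T.presheaf.stalk z ⟶ CommRingCat.of Ω :=
    T.presheaf.stalkSpecializes hz ≫ Scheme.stalkClosedPointTo ε
  obtain ⟨V, hV, hloc⟩ := IsLocalRing.exists_factor_valuationRing σ.hom
  let β : T.presheaf.stalk z ⟶ CommRingCat.of V := CommRingCat.ofHom (σ.hom.codRestrict V.toSubring hV)
  let c := Spec.map β ≫ T.fromSpecStalk z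
  have hc : genMap V ≫ c = ε := by
    show Spec.map _ ≫ Spec.map β ≫ _ = _
    rw [← Spec.map_comp_assoc,
      show β ≫ CommRingCat.ofHom (algebraMap V Ω) = σ from rfl, Spec.map_comp, Category.assoc,
      Scheme.SpecMap_stalkSpecializes_fromSpecStalk, Scheme.Spec_stalkClosedPointTo_fromSpecStalk]
  refine ⟨⟨V, c ≫ q, by rw [← Category.assoc, hc, hε]⟩, c, rfl, hc, ?_⟩
  show (Spec.map β ≫ T.fromSpecStalk z) (closedPoint V) = z
  rw [Scheme.Hom.comp_apply]
  exact (congrArg (T.fromSpecStalk z)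
    (IsLocalRing.comap_closedPoint (S := V) (σ.hom.codRestrict V.toSubring hV))).trans
    T.fromSpecStalk_closedPoint

variable (f e) in
/-- The piece over one geometric point. -/
theorem exists_piece [IsAlgClosed Ω] [IsNoetherian Y] [LocallyOfFiniteType f]
    (hf : Subtr.UnivSSubtrusive f) (Q : MorphismProperty Scheme.{u}) [Q.IsMultiplicative]
    [Q.IsStableUnderBaseChange] (hcl : ∀ {A B : Scheme.{u}} (i : A ⟶ B) [IsClosedImmersion i], Q i)
    (hproper : ∀ {A B : Scheme.{u}} (i : A ⟶ B), Q i → IsProper i)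
    (hcomp : ∀ {W U : Scheme.{u}} (i : W ⟶ U) (k : U ⟶ X) [IsClosedImmersion i] [IsOpenImmersion k]
      [IsSeparated (i ≫ k ≫ f)] [QuasiCompact (i ≫ k ≫ f)],
      ∃ (Z : Scheme.{u}) (j : W ⟶ Z) (g : Z ⟶ Y), IsOpenImmersion j ∧ Q g ∧ j ≫ g = i ≫ k ≫ f) :
    ∃ (Y' : Scheme.{u}) (q : Y' ⟶ Y) (ι : Type u) (_ : Finite ι) (W' : ι → Y'.Opens)
      (h : ∀ i, (W' i : Scheme.{u}) ⟶ X),
      Q q ∧ closure {e (closedPoint Ω)} ⊆ Set.range q ∧ (∀ y, ∃ i, y ∈ W' i) ∧
      ∀ i, h i ≫ f = (W' i).ι ≫ q := by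
  classical
  obtain ⟨F, hF⟩ := exists_finset_good (f := f) (e := e) hf
  have hZ : ∀ x : Pt f e, ∃ (Z : Scheme.{u}) (j : x.W ⟶ Z) (g : Z ⟶ Y),
      IsOpenImmersion j ∧ Q g ∧ j ≫ g = x.toX ≫ f := fun x => by
    have heq : x.cl ≫ x.U.2.fromSpec ≫ f =
        Spec.map (f.appLE x.Yk.1 x.U.1 x.le ≫ CommRingCat.ofHom x.β.hom.rangeRestrict) ≫ x.Yk.2.fromSpec := by
      rw [Spec.map_comp, Category.assoc, IsAffineOpen.SpecMap_appLE_fromSpec]
    haveI : IsSeparated (x.cl ≫ x.U.2.fromSpec ≫ f) := by rw [heq]; infer_instance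
    haveI : QuasiCompact (x.cl ≫ x.U.2.fromSpec ≫ f) := inferInstance
    obtain ⟨Z, j, g, h1, h2, h3⟩ := hcomp x.cl x.U.2.fromSpec
    exact ⟨Z, j, g, h1, h2, by rw [h3, Category.assoc]⟩
  choose Z j g hj hg hjg using hZ
  obtain ⟨T, q, ε, hq, hε, hpr⟩ := exists_joint Q F Z j g hg hjg
  choose pr hpr1 hpr2 using hpr
  haveI := hproper q hq
  haveI : IsLocallyNoetherian T := LocallyOfFiniteType.isLocallyNoetherian q
  haveI : CompactSpace T := QuasiCompact.compactSpace_of_compactSpace q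
  haveI : QuasiSeparatedSpace T := quasiSeparatedSpace_of_quasiSeparated q
  haveI : QuasiCompact ε := inferInstance
  let q' := ε.imageι ≫ q
  have hrange : Set.range ε.imageι = closure {ε (closedPoint Ω)} := by
    rw [show Set.range ε.imageι = (ε.ker.support : Set T) from Scheme.IdealSheafData.range_subschemeι _,
      Scheme.Hom.support_ker]
    congr 1
    ext y
    constructor
    · rintro ⟨p, rfl⟩; rw [Subsingleton.elim p (closedPoint Ω)]; rfl
    · rintro rfl; exact ⟨_, rfl⟩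
  let W' : {x // x ∈ F} → ε.image.Opens := fun x => (ε.imageι ≫ pr x.1 x.2) ⁻¹ᵁ (j x.1).opensRange
  have hlift : ∀ x : {x // x ∈ F}, ∃ l : (W' x : Scheme.{u}) ⟶ x.1.W,
      l ≫ j x.1 = (W' x).ι ≫ ε.imageι ≫ pr x.1 x.2 := fun x => by
    haveI := hj x.1
    refine ⟨IsOpenImmersion.lift (j x.1) _ ?_, IsOpenImmersion.lift_fac _ _ _⟩
    rintro _ ⟨w, rfl⟩
    exact (show (W' x).ι w ∈ W' x from w.2)
  choose l hl using hlift
  refine ⟨ε.image, q', {x // x ∈ F}, inferInstance, W', fun x => l x ≫ x.1.toX,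
    Q.comp_mem _ _ (hcl _) hq, ?_, fun y => ?_, fun x => ?_⟩
  · haveI := hproper q' (Q.comp_mem _ _ (hcl _) hq)
    refine closure_minimal ?_ q'.isClosedMap.isClosed_range
    obtain ⟨t, ht⟩ : ε (closedPoint Ω) ∈ Set.range ε.imageι := by
      rw [hrange]; exact subset_closure rfl
    rintro _ rfl
    refine ⟨t, ?_⟩
    rw [← hε, Scheme.Hom.comp_apply, Scheme.Hom.comp_apply, ht]
  · have hz : ε (closedPoint Ω) ⤳ ε.imageι y :=
      specializes_iff_mem_closure.mpr (hrange ▸ Set.mem_range_self y)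
    obtain ⟨P, c, hcq, hcε, hcz⟩ := exists_ctr q ε hε _ hz
    obtain ⟨x, hx, hgood⟩ := hF P
    obtain ⟨γ, hγ, hγc⟩ := x.exists_lift_of_good P hgood
    haveI := hproper (g x) (hg x)
    haveI : IsDominant (genMap P.V) := ⟨by
      rw [denseRange_iff_closure_range, Set.eq_univ_iff_forall]
      intro p
      refine closure_mono ?_ (specializes_iff_mem_closure.mp (GrothLib.HTop.gen_specializes (R := CommRingCat.of P.V) p))
      rintro _ rfl
      exact ⟨GrothLib.HTop.gen (CommRingCat.of Ω), GrothLib.HTop.specMap_gen Subtype.val_injective⟩⟩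
    have heq : c ≫ pr x hx = γ ≫ j x := by
      refine ext_of_isDominant_of_isSeparated (g x) ?_ (genMap P.V) ?_
      · rw [Category.assoc, hpr1 x hx, hcq, Category.assoc, hjg, hγc]
      · rw [← Category.assoc, hcε, hpr2 x hx, ← Category.assoc, hγ]
    refine ⟨⟨x, hx⟩, ?_⟩
    show (ε.imageι ≫ pr x hx) y ∈ (j x).opensRange
    rw [Scheme.Hom.comp_apply, ← hcz, ← Scheme.Hom.comp_apply, heq]
    exact ⟨γ (closedPoint P.V), rfl⟩
  · rw [Category.assoc, ← hjg, reassoc_of% (hl x), hpr1]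

end GrothLib.SubtrRefine4
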