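import Groth.Agent.Lib.SubtrLim.Multisection
import Mathlib.RingTheory.Valuation.ValuationSubring
import Mathlib.RingTheory.Jacobson.Ring
import Mathlib.FieldTheory.IsAlgClosed.Basic
import Mathlib

/-!
# Points with values in a valuation ring with algebraically closed fraction field

If a finite type algebra over such a valuation ring has points in some extension of valuation rings,
then it has a point with values in the valuation ring itself.
-/

set_option autoImplicit false
universe u

open IsLocalRing

namespace GrothLib.SubtrRefine4

variable {Ω : Type u} [Field Ω] [IsAlgClosed Ω] (V : ValuationSubring Ω)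

/-- A domain integral over a valuation ring with algebraically closed fraction field is equal to it. -/
theorem algebraMap_surjective_of_integral (R : Type u) [CommRing R] [IsDomain R] [Algebra V R]
    [Algebra.IsIntegral V R] (hinj : Function.Injective (algebraMap V R)) :
    Function.Surjective (algebraMap V R) := by
  intro x
  haveI : Module.IsTorsionFree V R := Module.isTorsionFree_iff_algebraMap_injective.mpr hinj
  let f : R →ₐ[V] Ω := IsAlgClosed.lift
  have hf : Function.Injective f := by
    rw [injective_iff_map_eq_zero]
    intro y hy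
    have h0 : (RingHom.ker f.toRingHom).comap (algebraMap V R) = ⊥ := by
      rw [RingHom.comap_ker, ← RingHom.injective_iff_ker_eq_bot]
      intro a b h
      apply IsFractionRing.injective V Ω
      simpa using h
    exact (Ideal.eq_bot_of_comap_eq_bot h0).le hy
  obtain ⟨b, hb⟩ := IsIntegrallyClosed.algebraMap_eq_of_integral (R := V) (K := Ω)
    ((Algebra.IsIntegral.isIntegral (R := V) x).map f)
  exact ⟨b, hf (by rw [AlgHom.commutes, hb])⟩

/-- **Valued points**: a finite type algebra over `V` dominated by a domain, with a prime over the
maximal ideal, has a `V`-point. -/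
theorem nonempty_algHom_valuationSubring (C : Type u) [CommRing C] [Algebra V C]
    [Algebra.FiniteType V C] (W : Type u) [CommRing W] [IsDomain W] (ψ : C →+* W)
    (hinj : Function.Injective (ψ.comp (algebraMap V C))) (P : Ideal W) [P.IsPrime]
    (hP : P.comap (ψ.comp (algebraMap V C)) = maximalIdeal V) :
    Nonempty (C →ₐ[V] V) := by
  let K : Ideal C := RingHom.ker ψ
  haveI : K.IsPrime := RingHom.ker_isPrime ψ
  let C' := C ⧸ K
  haveI : Algebra.FiniteType V C' :=
    Algebra.FiniteType.of_surjective (Ideal.Quotient.mkₐ V K) Ideal.Quotient.mk_surjective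
  let ψ' : C' →+* W := Ideal.Quotient.lift K ψ fun a ha => ha
  have hψ : ψ'.comp (algebraMap V C') = ψ.comp (algebraMap V C) := RingHom.ext fun v => rfl
  have hinj' : Function.Injective (algebraMap V C') := by
    have h := hinj
    rw [← hψ] at h
    exact Function.Injective.of_comp (RingHom.coe_comp _ _ ▸ h)
  let q₀ : Ideal C' := P.comap ψ'
  obtain ⟨q, hq, hq₀⟩ := Ideal.exists_le_maximal q₀ (Ideal.IsPrime.comap ψ').ne_top
  haveI := hq
  have hqV : q.comap (algebraMap V C') = maximalIdeal V := by
    refine ((IsLocalRing.maximalIdeal.isMaximal V).eq_of_le (Ideal.IsPrime.comap _).ne_top ?_).symm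
    rw [← hP, ← hψ, ← Ideal.comap_comap]
    exact Ideal.comap_mono hq₀
  obtain ⟨R, _, _, _, _, _, n, s, φ, hn, hnV, hs, hφ⟩ :=
    GrothLib.SubtrLim.exists_multisection hinj' q hqV
  have hVR : Function.Injective (algebraMap V R) := FaithfulSMul.algebraMap_injective V R
  have hsur := algebraMap_surjective_of_integral V R hVR
  obtain ⟨v, rfl⟩ := hsur s
  have hv : IsUnit v := by
    by_contra h
    exact hs (hnV.ge (show v ∈ maximalIdeal V from h) :)
  have hmem : ∀ x : C', φ x ∈ (Algebra.ofId V (FractionRing R)).range := by
    intro x
    obtain ⟨N, y, hy, -⟩ := hφ x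
    obtain ⟨w, rfl⟩ := hsur y
    obtain ⟨v', hv'⟩ := isUnit_iff_exists_inv'.mp (hv.pow N)
    refine ⟨v' * w, ?_⟩
    have h2 : φ x = algebraMap V (FractionRing R) (v' * v ^ N) * φ x := by rw [hv', map_one, one_mul]
    show algebraMap V (FractionRing R) (v' * w) = φ x
    rw [h2, map_mul, map_mul, mul_assoc, map_pow,
      IsScalarTower.algebraMap_apply V R (FractionRing R) w, hy,
      IsScalarTower.algebraMap_apply V R (FractionRing R) v]
  have hVL : Function.Injective (Algebra.ofId V (FractionRing R)) := by
    have h : (Algebra.ofId V (FractionRing R) : V → FractionRing R) =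
        algebraMap R (FractionRing R) ∘ algebraMap V R :=
      funext fun a => IsScalarTower.algebraMap_apply V R (FractionRing R) a
    rw [h]
    exact (IsFractionRing.injective R (FractionRing R)).comp hVR
  exact ⟨((AlgEquiv.ofInjective _ hVL).symm.toAlgHom.comp (φ.codRestrict _ hmem)).comp
    (Ideal.Quotient.mkₐ V K)⟩

end GrothLib.SubtrRefine4
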