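import Groth.Agent.Lib.SubtrRefine4.Point
import Groth.Agent.S14769

/-!
# Finitely many geometric points meeting all valuations

For a universally subtrusive morphism `f : X ⟶ Y` of finite type and a geometric point `e` of `Y`,
finitely many `Ω`-points of affine charts of `X` over `e` are such that, for every valuation ring of
`Ω` centred on `Y`, one of them is integral.
-/

set_option autoImplicit false
set_option backward.isDefEq.respectTransparency false
universe u

open CategoryTheory CategoryTheory.Limits AlgebraicGeometry TensorProduct IsLocalRing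

noncomputable section

namespace GrothLib.SubtrRefine4

variable {X Y : Scheme.{u}} (f : X ⟶ Y) {Ω : Type u} [Field Ω]
  (e : Spec (CommRingCat.of Ω) ⟶ Y)

/-- The generic point map of a valuation subring. -/
abbrev genMap (V : ValuationSubring Ω) : Spec (CommRingCat.of Ω) ⟶ Spec (CommRingCat.of V) :=
  Spec.map (CommRingCat.ofHom (algebraMap V Ω))

/-- An `Ω`-point of an affine chart of `X` over `e`. -/
structure Pt where
  /-- the affine open of the base -/
  Yk : Y.affineOpens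
  /-- the affine chart -/
  U : X.affineOpens
  le : U.1 ≤ f ⁻¹ᵁ Yk.1
  /-- the point -/
  β : Γ(X, U.1) ⟶ CommRingCat.of Ω
  fac : Spec.map β ≫ U.2.fromSpec ≫ f = e

/-- A valuation ring of `Ω` centred on `Y` compatibly with `e`. -/
structure Ctr where
  /-- the valuation ring -/
  V : ValuationSubring Ω
  /-- the centre -/
  c : Spec (CommRingCat.of V) ⟶ Y
  fac : genMap V ≫ c = e

variable {f e}

/-- The point is integral at the valuation. -/
def Pt.Good (x : Pt f e) (P : Ctr e) : Prop :=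
  P.c (closedPoint P.V) ∈ x.Yk.1 ∧ ∀ b, x.β b ∈ P.V

theorem Ctr.exists_ringHom (P : Ctr e) {W : Y.Opens} (hW : IsAffineOpen W)
    (h : P.c (closedPoint P.V) ∈ W) :
    ∃ α : Γ(Y, W) ⟶ CommRingCat.of P.V, Spec.map α ≫ hW.fromSpec = P.c ∧
      Spec.map (α ≫ CommRingCat.ofHom (algebraMap P.V Ω)) ≫ hW.fromSpec = e := by
  have hr : Set.range P.c ⊆ Set.range hW.fromSpec := by
    rw [hW.range_fromSpec]
    rintro _ ⟨p, rfl⟩
    exact ((specializes_closedPoint (R := P.V) p).map P.c.continuous).mem_open W.2 h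
  let m := IsOpenImmersion.lift hW.fromSpec P.c hr
  have hm : Spec.map (Spec.preimage m) ≫ hW.fromSpec = P.c := by
    rw [Spec.map_preimage]; exact IsOpenImmersion.lift_fac _ _ _
  exact ⟨Spec.preimage m, hm, by rw [Spec.map_comp, Category.assoc, hm]; exact P.fac⟩

theorem closedPoint_of_surjective {V V' : Type u} [CommRing V] [IsLocalRing V] [CommRing V'] [IsLocalRing V']
    (b : Spec (CommRingCat.of V') ⟶ Spec (CommRingCat.of V)) [Surjective b] :
    b (closedPoint V') = closedPoint V := by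
  obtain ⟨w, hw⟩ := b.surjective (closedPoint V)
  exact ((PrimeSpectrum.isClosed_singleton_iff_isMaximal (closedPoint V)).mpr
    (maximalIdeal.isMaximal V)).closure_eq.le
    (specializes_iff_mem_closure.mp (hw ▸ (specializes_closedPoint (R := V') w).map b.continuous))

variable [IsAlgClosed Ω] [LocallyOfFiniteType f]

/-- The lifting lemma. -/
theorem exists_good (hf : Subtr.UnivSSubtrusive f) (P : Ctr e) (Yk : Y.affineOpens)
    (hk : P.c (closedPoint P.V) ∈ Yk.1) : ∃ x : Pt f e, x.Yk = Yk ∧ x.Good P := by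
  obtain ⟨V', _, _, _, a, b, hb, hab⟩ := (Groth.Agent.S14769.result f).mp hf P.V P.c
  let φ := Spec.preimage b
  have hbc : b (closedPoint V') = closedPoint P.V := closedPoint_of_surjective b
  have hac : a (closedPoint V') ∈ f ⁻¹ᵁ Yk.1 := by
    show f (a (closedPoint V')) ∈ Yk.1
    rw [← Scheme.Hom.comp_apply, hab, Scheme.Hom.comp_apply, hbc]
    exact hk
  obtain ⟨_, ⟨U, hU, rfl⟩, haU, hUle'⟩ :=
    X.isBasis_affineOpens.exists_subset_of_mem_open hac (f ⁻¹ᵁ Yk.1).2
  have hUle : U ≤ f ⁻¹ᵁ Yk.1 := hUle'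
  have hr : Set.range a ⊆ Set.range hU.fromSpec := by
    rw [hU.range_fromSpec]
    rintro _ ⟨p, rfl⟩
    exact ((specializes_closedPoint (R := V') p).map a.continuous).mem_open U.2 haU
  let ψ := Spec.preimage (IsOpenImmersion.lift hU.fromSpec a hr)
  have hψ : Spec.map ψ ≫ hU.fromSpec = a := by
    rw [Spec.map_preimage]; exact IsOpenImmersion.lift_fac _ _ _
  obtain ⟨α, hα, hαe⟩ := P.exists_ringHom Yk.2 hk
  let j := f.appLE Yk.1 U hUle
  have hYk : IsAffineOpen Yk.1 := Yk.2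
  have hcomm : j ≫ ψ = α ≫ φ := by
    apply Spec.map_injective
    rw [← cancel_mono hYk.fromSpec, Spec.map_comp, Spec.map_comp, Category.assoc, Category.assoc,
      IsAffineOpen.SpecMap_appLE_fromSpec f hYk hU hUle, reassoc_of% hψ]
    exact hab.trans (by rw [hα, Spec.map_preimage])
  letI : Algebra Γ(Y, Yk.1) Γ(X, U) := j.hom.toAlgebra
  letI : Algebra Γ(Y, Yk.1) P.V := α.hom.toAlgebra
  letI : Algebra Γ(Y, Yk.1) V' := (φ.hom.comp α.hom).toAlgebra
  haveI : Algebra.FiniteType Γ(Y, Yk.1) Γ(X, U) := f.finiteType_appLE Yk.2 hU hUle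
  let φA : P.V →ₐ[Γ(Y, Yk.1)] V' := ⟨φ.hom, fun _ => rfl⟩
  let ψA : Γ(X, U) →ₐ[Γ(Y, Yk.1)] V' :=
    ⟨ψ.hom, fun r => congrArg (fun g => g.hom r) hcomm⟩
  let C := P.V ⊗[Γ(Y, Yk.1)] Γ(X, U)
  let ψC : C →ₐ[Γ(Y, Yk.1)] V' := Algebra.TensorProduct.productMap φA ψA
  have hcomp : ψC.toRingHom.comp (algebraMap P.V C) = φ.hom := RingHom.ext fun v =>
    (Algebra.TensorProduct.productMap_apply_tmul φA ψA v 1).trans (by rw [map_one, mul_one]; rfl)
  obtain ⟨w, hw⟩ := b.surjective (⟨⊥, Ideal.isPrime_bot⟩ : PrimeSpectrum P.V)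
  have hinj : Function.Injective φ.hom := by
    rw [RingHom.injective_iff_ker_eq_bot]
    refine le_antisymm ?_ bot_le
    have h2 : (Spec.map φ w).asIdeal = ⊥ := by rw [Spec.map_preimage]; exact congrArg PrimeSpectrum.asIdeal hw
    exact le_of_le_of_eq (Ideal.comap_mono (f := φ.hom) bot_le) h2
  have hmax : (maximalIdeal V').comap φ.hom = maximalIdeal P.V := by
    have h2 : (Spec.map φ (closedPoint V')).asIdeal = maximalIdeal P.V := by
      rw [Spec.map_preimage, hbc]; rfl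
    exact h2
  obtain ⟨χ⟩ := nonempty_algHom_valuationSubring P.V C V' ψC.toRingHom (hcomp.symm ▸ hinj)
    (maximalIdeal V') (hcomp.symm ▸ hmax)
  let π : Γ(X, U) →ₐ[Γ(Y, Yk.1)] P.V :=
    (χ.restrictScalars Γ(Y, Yk.1)).comp Algebra.TensorProduct.includeRight
  let πc : Γ(X, U) ⟶ CommRingCat.of P.V := CommRingCat.ofHom π.toRingHom
  have hπ : j ≫ πc = α := CommRingCat.hom_ext (RingHom.ext fun r => π.commutes r)
  refine ⟨⟨Yk, ⟨U, hU⟩, hUle, πc ≫ CommRingCat.ofHom (algebraMap P.V Ω), ?_⟩, rfl, hk, fun b => (π b).2⟩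
  show Spec.map (πc ≫ CommRingCat.ofHom (algebraMap P.V Ω)) ≫ hU.fromSpec ≫ f = e
  rw [← IsAffineOpen.SpecMap_appLE_fromSpec f hYk hU hUle, ← Spec.map_comp_assoc]
  refine Eq.trans ?_ hαe
  congr 2
  rw [← Category.assoc]
  exact congrArg (· ≫ _) hπ

/-- The ultrafilter limit of valuation subrings. -/
def limSubring {ι : Type u} (𝒰 : Ultrafilter ι) (V : ι → ValuationSubring Ω) : ValuationSubring Ω where
  carrier := {a | ∀ᶠ i in (𝒰 : Filter ι), a ∈ V i}
  mul_mem' ha hb := by filter_upwards [ha, hb] with i h₁ h₂ using mul_mem h₁ h₂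
  one_mem' := Filter.Eventually.of_forall fun i => one_mem _
  add_mem' ha hb := by filter_upwards [ha, hb] with i h₁ h₂ using add_mem h₁ h₂
  zero_mem' := Filter.Eventually.of_forall fun i => zero_mem _
  neg_mem' ha := by filter_upwards [ha] with i h₁ using neg_mem h₁
  mem_or_inv_mem' a := Ultrafilter.eventually_or.mp
    (Filter.Eventually.of_forall fun i => (V i).mem_or_inv_mem a)

/-- **Compactness**: finitely many points suffice. -/
theorem exists_finset_good (hf : Subtr.UnivSSubtrusive f) [CompactSpace Y] :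
    ∃ F : Finset (Pt f e), ∀ P : Ctr e, ∃ x ∈ F, x.Good P := by
  classical
  by_contra hne
  push_neg at hne
  choose P hP using hne
  let 𝒰 : Ultrafilter (Finset (Pt f e)) := Ultrafilter.of Filter.atTop
  have hev : ∀ x : Pt f e, ∀ᶠ F in (𝒰 : Filter (Finset (Pt f e))), ¬ x.Good (P F) := fun x =>
    (Ultrafilter.of_le _) (Filter.eventually_atTop.mpr ⟨{x}, fun F hF => hP F x (hF (Finset.mem_singleton_self x))⟩)
  obtain ⟨s, hs⟩ := CompactSpace.isCompact_univ.elim_finite_subcover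
    (fun W : Y.affineOpens => (W.1 : Set Y)) (fun W => W.1.2) (fun y _ => by
      obtain ⟨_, ⟨W, hW, rfl⟩, hy, -⟩ := Y.isBasis_affineOpens.exists_subset_of_mem_open (Set.mem_univ y) isOpen_univ
      exact Set.mem_iUnion.mpr ⟨⟨W, hW⟩, hy⟩)
  obtain ⟨W, hW⟩ : ∃ W : Y.affineOpens, ∀ᶠ F in (𝒰 : Filter (Finset (Pt f e))),
      (P F).c (closedPoint (P F).V) ∈ W.1 := by
    have h1 : ∀ᶠ F in (𝒰 : Filter (Finset (Pt f e))), ∃ W ∈ (s : Set Y.affineOpens),
        (P F).c (closedPoint (P F).V) ∈ W.1 := Filter.Eventually.of_forall fun F => by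
      simpa using hs (Set.mem_univ ((P F).c (closedPoint (P F).V)))
    obtain ⟨W, -, hW⟩ := (Ultrafilter.eventually_exists_mem_iff s.finite_toSet).mp h1
    exact ⟨W, hW⟩
  obtain ⟨F₀, hF₀⟩ := hW.exists
  obtain ⟨α₀, -, hα₀⟩ := (P F₀).exists_ringHom W.2 hF₀
  let αΩ := α₀ ≫ CommRingCat.ofHom (algebraMap (P F₀).V Ω)
  let Vl := limSubring 𝒰 fun F => (P F).V
  have hαmem : ∀ F, (P F).c (closedPoint (P F).V) ∈ W.1 → ∀ r, αΩ r ∈ (P F).V := fun F hF r => by
    obtain ⟨α, -, hα⟩ := (P F).exists_ringHom W.2 hF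
    have h2 : αΩ = α ≫ CommRingCat.ofHom (algebraMap (P F).V Ω) :=
      Spec.map_injective ((cancel_mono W.2.fromSpec).mp (hα₀.trans hα.symm))
    rw [h2]
    exact (α r).2
  have hαl : ∀ r, αΩ r ∈ Vl := fun r => hW.mono fun F hF => hαmem F hF r
  let αl : Γ(Y, W.1) ⟶ CommRingCat.of Vl := CommRingCat.ofHom (αΩ.hom.codRestrict Vl.toSubring hαl)
  let Pl : Ctr e := ⟨Vl, Spec.map αl ≫ W.2.fromSpec, by
    rw [← Spec.map_comp_assoc, ← hα₀]; rfl⟩
  obtain ⟨x, hxW, hx1, hx2⟩ := exists_good hf Pl W (by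
    show (Spec.map αl ≫ W.2.fromSpec) (closedPoint Vl) ∈ W.1
    rw [Scheme.Hom.comp_apply]
    exact W.2.range_fromSpec.le ⟨_, rfl⟩)
  subst hxW
  let j := f.appLE x.Yk.1 x.U.1 x.le
  letI : Algebra Γ(Y, x.Yk.1) Γ(X, x.U.1) := j.hom.toAlgebra
  haveI : Algebra.FiniteType Γ(Y, x.Yk.1) Γ(X, x.U.1) := f.finiteType_appLE x.Yk.2 x.U.2 x.le
  obtain ⟨g, hg⟩ := (Algebra.FiniteType.out (R := Γ(Y, x.Yk.1)) (A := Γ(X, x.U.1)))
  have hjβ : j ≫ x.β = αΩ := by
    apply Spec.map_injective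
    rw [← cancel_mono x.Yk.2.fromSpec, Spec.map_comp, Category.assoc, IsAffineOpen.SpecMap_appLE_fromSpec]
    exact x.fac.trans hα₀.symm
  have hgood : ∀ᶠ F in (𝒰 : Filter (Finset (Pt f e))), x.Good (P F) := by
    have hgs : ∀ᶠ F in (𝒰 : Filter (Finset (Pt f e))), ∀ b ∈ g, x.β b ∈ (P F).V :=
      (Filter.eventually_all_finset g).mpr fun b _ => hx2 b
    filter_upwards [hW, hgs] with F hF hb
    refine ⟨hF, fun b => ?_⟩
    have hb' : b ∈ Algebra.adjoin Γ(Y, x.Yk.1) (g : Set Γ(X, x.U.1)) := hg ▸ Algebra.mem_top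
    induction hb' using Algebra.adjoin_induction with
    | mem b h => exact hb b h
    | algebraMap r =>
      have := hαmem F hF r
      rwa [← hjβ] at this
    | add p q _ _ hp hq => rw [map_add]; exact add_mem hp hq
    | mul p q _ _ hp hq => rw [map_mul]; exact mul_mem hp hq
  obtain ⟨F, h1, h2⟩ := (hgood.and (hev x)).exists
  exact h2 h1

end GrothLib.SubtrRefine4
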